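import Mathlib
import Groth.Agent.PairHens.Basic

set_option autoImplicit false

/-!
Truncations of henselian finitely presented algebras and infinitesimal lifting.
-/

universe u

open scoped TensorProduct

namespace Groth.Agent.HensSmooth

noncomputable section

variable {A : Type u} [CommRing A] {I : Ideal A}

/-- A surjection cutting out `A/J` is a base change. -/
theorem exists_equiv_baseChange (J : Ideal A) {R : Type u} [CommRing R] [Algebra A R] {C : Type u}
    [CommRing C] [Algebra A C] [Algebra (A ⧸ J) C] [IsScalarTower A (A ⧸ J) C]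
    (π : R →ₐ[A] C) (hπ : Function.Surjective π)
    (hker : RingHom.ker π.toRingHom ≤ J.map (algebraMap A R)) :
    Nonempty ((A ⧸ J) ⊗[A] R ≃ₐ[A ⧸ J] C) := by
  let f₀ : (A ⧸ J) ⊗[A] R →ₐ[A ⧸ J] C :=
    Algebra.TensorProduct.lift (Algebra.ofId (A ⧸ J) C) π fun _ _ => Commute.all _ _
  let f₁ : R →+* (A ⧸ J) ⊗[A] R := Algebra.TensorProduct.includeRight.toRingHom
  have hf₁ : Function.Surjective f₁ := fun x => by
    induction x using TensorProduct.induction_on with
    | zero => exact ⟨0, map_zero _⟩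
    | tmul a s =>
      obtain ⟨a, rfl⟩ := Ideal.Quotient.mk_surjective a
      refine ⟨algebraMap A R a * s, ?_⟩
      show (1 : A ⧸ J) ⊗ₜ[A] (algebraMap A R a * s) = _
      rw [← Algebra.smul_def, TensorProduct.tmul_smul, TensorProduct.smul_tmul', Algebra.smul_def, mul_one,
        Ideal.Quotient.algebraMap_eq]
    | add x y hx hy =>
      obtain ⟨a, rfl⟩ := hx
      obtain ⟨b, rfl⟩ := hy
      exact ⟨a + b, map_add _ _ _⟩
  have hJ : J.map (algebraMap A R) ≤ RingHom.ker f₁ := by
    rw [Ideal.map_le_iff_le_comap]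
    intro a ha
    show Algebra.TensorProduct.includeRight (algebraMap A R a) = (0 : (A ⧸ J) ⊗[A] R)
    rw [AlgHom.commutes, IsScalarTower.algebraMap_apply A (A ⧸ J), Ideal.Quotient.algebraMap_eq,
      Ideal.Quotient.eq_zero_iff_mem.2 ha, map_zero]
  have hπ' : ∀ r, f₀ (f₁ r) = π r := fun r => by simp [f₀, f₁]
  refine ⟨AlgEquiv.ofBijective f₀ ⟨(injective_iff_map_eq_zero f₀).2 fun x hx => ?_, fun c => ?_⟩⟩
  · obtain ⟨s, rfl⟩ := hf₁ x
    rw [hπ'] at hx
    exact hJ (hker hx)
  · obtain ⟨x, rfl⟩ := hπ c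
    exact ⟨f₁ x, hπ' x⟩

/-- Truncations of henselian finitely presented algebras are finitely presented. -/
theorem fp_trunc (R₀ : Type u) [CommRing R₀] [Algebra A R₀] [Algebra.FinitePresentation A R₀]
    (B : Type u) [CommRing B] [Algebra R₀ B] [Algebra A B] [IsScalarTower A R₀ B]
    (hB : Hens2.IsPairHenselization R₀ (I.map (algebraMap A R₀)) B) (r : ℕ) :
    Algebra.FinitePresentation (A ⧸ I ^ r) (B ⧸ (I ^ r).map (algebraMap A B)) := by
  have heq : ((I.map (algebraMap A R₀)) ^ r).map (algebraMap R₀ B) =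
      (I ^ r).map (algebraMap A B) := by
    rw [← Ideal.map_pow, Ideal.map_map, ← IsScalarTower.algebraMap_eq]
  let π : R₀ →ₐ[A] B ⧸ (I ^ r).map (algebraMap A B) :=
    (Ideal.Quotient.mkₐ A _).comp (IsScalarTower.toAlgHom A R₀ B)
  have hπ : Function.Surjective π := fun c => by
    obtain ⟨b, rfl⟩ := Ideal.Quotient.mk_surjective c
    obtain ⟨x, hx⟩ := PairHens.exists_sub_mem_map_pow hB r b
    rw [heq] at hx
    exact ⟨x, (Ideal.Quotient.eq.2 hx).symm⟩
  have hker : RingHom.ker π.toRingHom ≤ (I ^ r).map (algebraMap A R₀) := by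
    intro x hx
    have h : algebraMap R₀ B x ∈ (I ^ r).map (algebraMap A B) := Ideal.Quotient.eq_zero_iff_mem.1 hx
    rw [← heq] at h
    rw [Ideal.map_pow]
    exact (PairHens.comap_map_eq hB _ r le_rfl).le h
  obtain ⟨e⟩ := exists_equiv_baseChange (I ^ r) π hπ hker
  exact Algebra.FinitePresentation.equiv e

section Lift

variable {B E C : Type u} [CommRing B] [Algebra A B] [CommRing E] [Algebra A E] [CommRing C]
  [Algebra A C] {J : Ideal A}

/-- The structure over `A/J` of an algebra killed by `J`. -/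
@[instance_reducible]
def truncAlgebra (hJ : J.map (algebraMap A E) = ⊥) : Algebra (A ⧸ J) E :=
  (Ideal.Quotient.lift J (algebraMap A E) fun a ha => by
    rw [← Ideal.mem_bot, ← hJ]; exact Ideal.mem_map_of_mem _ ha).toAlgebra

theorem trunc_tower (hJ : J.map (algebraMap A E) = ⊥) :
    letI := truncAlgebra hJ; IsScalarTower A (A ⧸ J) E :=
  letI := truncAlgebra hJ
  .of_algebraMap_eq fun _ => rfl

/-- An `A`-algebra map between algebras over `A/J` is linear over `A/J`. -/
def extendScalars [Algebra (A ⧸ J) E] [IsScalarTower A (A ⧸ J) E] [Algebra (A ⧸ J) C]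
    [IsScalarTower A (A ⧸ J) C] (f : E →ₐ[A] C) : E →ₐ[A ⧸ J] C :=
  { toRingHom := f.toRingHom
    commutes' := fun a => by
      obtain ⟨a, rfl⟩ := Ideal.Quotient.mk_surjective a
      have h := f.commutes a
      rw [IsScalarTower.algebraMap_apply A (A ⧸ J) E, IsScalarTower.algebraMap_apply A (A ⧸ J) C,
        Ideal.Quotient.algebraMap_eq] at h
      exact h }

theorem map_le_ker (hJ : J.map (algebraMap A E) = ⊥) (v : B →ₐ[A] E) :
    J.map (algebraMap A B) ≤ RingHom.ker v.toRingHom := by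
  rw [Ideal.map_le_iff_le_comap]
  intro a ha
  show v (algebraMap A B a) = 0
  rw [v.commutes, ← Ideal.mem_bot, ← hJ]
  exact Ideal.mem_map_of_mem _ ha

/-- Lifting against nilpotent thickenings of `A/J`-algebras. -/
theorem exists_lift [Algebra.FormallySmooth (A ⧸ J) (B ⧸ J.map (algebraMap A B))]
    (hE : J.map (algebraMap A E) = ⊥) (hC : J.map (algebraMap A C) = ⊥) (p : E →ₐ[A] C)
    (hp : Function.Surjective p) (hnil : IsNilpotent (RingHom.ker p.toRingHom)) (u : B →ₐ[A] C) :
    ∃ v : B →ₐ[A] E, p.comp v = u := by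
  letI := truncAlgebra hE
  letI := truncAlgebra hC
  haveI := trunc_tower hE
  haveI := trunc_tower hC
  let u' : B ⧸ J.map (algebraMap A B) →ₐ[A ⧸ J] C :=
    extendScalars (Ideal.Quotient.liftₐ _ u fun a ha => map_le_ker hC u ha)
  let w := Algebra.FormallySmooth.liftOfSurjective u' (extendScalars (J := J) p) hp hnil
  refine ⟨(w.restrictScalars A).comp (Ideal.Quotient.mkₐ A _), AlgHom.ext fun b => ?_⟩
  exact Algebra.FormallySmooth.liftOfSurjective_apply u' (extendScalars (J := J) p) hp hnil _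

theorem lift_unique [Algebra.FormallyUnramified (A ⧸ J) (B ⧸ J.map (algebraMap A B))]
    (hE : J.map (algebraMap A E) = ⊥) (p : E →ₐ[A] C) (hnil : IsNilpotent (RingHom.ker p.toRingHom))
    (v₁ v₂ : B →ₐ[A] E) (h : p.comp v₁ = p.comp v₂) : v₁ = v₂ := by
  letI := truncAlgebra hE
  haveI := trunc_tower hE
  let e : (B →ₐ[A] E) → (B ⧸ J.map (algebraMap A B) →ₐ[A ⧸ J] E) := fun v =>
    extendScalars (Ideal.Quotient.liftₐ _ v fun a ha => map_le_ker hE v ha)
  have : e v₁ = e v₂ := by
    refine Algebra.FormallyUnramified.ext' p.toRingHom hnil _ _ fun x => ?_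
    obtain ⟨b, rfl⟩ := Ideal.Quotient.mk_surjective x
    exact AlgHom.congr_fun h b
  exact AlgHom.ext fun b => AlgHom.congr_fun this (Ideal.Quotient.mk _ b)

theorem map_pow_eq_bot (E : Type u) [CommRing E] [Algebra A E] [Algebra (A ⧸ J) E]
    [IsScalarTower A (A ⧸ J) E] : J.map (algebraMap A E) = ⊥ := by
  rw [IsScalarTower.algebraMap_eq A (A ⧸ J) E, ← Ideal.map_map, Ideal.Quotient.algebraMap_eq,
    Ideal.map_quotient_self, Ideal.map_bot]

/-- Formal smoothness of a truncation from the lifting property. -/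
theorem formallySmooth_of_lift
    (H : ∀ (E C : Type u) [CommRing E] [CommRing C] [Algebra A E] [Algebra A C],
      J.map (algebraMap A E) = ⊥ → J.map (algebraMap A C) = ⊥ → ∀ p : E →ₐ[A] C,
      Function.Surjective p → RingHom.ker p ^ 2 = ⊥ → ∀ u : B →ₐ[A] C, ∃ v : B →ₐ[A] E, p.comp v = u) :
    Algebra.FormallySmooth (A ⧸ J) (B ⧸ J.map (algebraMap A B)) := by
  refine Algebra.FormallySmooth.of_comp_surjective fun D _ _ K hK u => ?_
  letI : Algebra A D := ((algebraMap (A ⧸ J) D).comp (Ideal.Quotient.mk J)).toAlgebra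
  haveI : IsScalarTower A (A ⧸ J) D := .of_algebraMap_eq fun _ => rfl
  obtain ⟨v, hv⟩ := H D (D ⧸ K) (map_pow_eq_bot D) (map_pow_eq_bot _) (Ideal.Quotient.mkₐ A K)
    Ideal.Quotient.mk_surjective
    (by rw [show RingHom.ker (Ideal.Quotient.mkₐ A K) = K from Ideal.mk_ker]; exact hK)
    ((u.restrictScalars A).comp (Ideal.Quotient.mkₐ A _))
  refine ⟨extendScalars (Ideal.Quotient.liftₐ _ v fun a ha => map_le_ker (map_pow_eq_bot D) v ha), ?_⟩
  refine AlgHom.ext fun x => ?_
  obtain ⟨b, rfl⟩ := Ideal.Quotient.mk_surjective x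
  exact AlgHom.congr_fun hv b

/-- Formal etaleness of a truncation from the unique lifting property. -/
theorem formallyEtale_of_lift
    (H : ∀ (E C : Type u) [CommRing E] [CommRing C] [Algebra A E] [Algebra A C],
      J.map (algebraMap A E) = ⊥ → J.map (algebraMap A C) = ⊥ → ∀ p : E →ₐ[A] C,
      Function.Surjective p → RingHom.ker p ^ 2 = ⊥ → ∀ u : B →ₐ[A] C, ∃! v : B →ₐ[A] E, p.comp v = u) :
    Algebra.FormallyEtale (A ⧸ J) (B ⧸ J.map (algebraMap A B)) := by
  haveI := formallySmooth_of_lift (B := B) (J := J)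
    fun E C _ _ _ _ h1 h2 p hp h3 u => (H E C h1 h2 p hp h3 u).exists
  refine Algebra.FormallyEtale.iff_comp_bijective.2 fun D _ _ K hK => ⟨fun v₁ v₂ h => ?_,
    Algebra.FormallySmooth.comp_surjective _ _ K hK⟩
  letI : Algebra A D := ((algebraMap (A ⧸ J) D).comp (Ideal.Quotient.mk J)).toAlgebra
  haveI : IsScalarTower A (A ⧸ J) D := .of_algebraMap_eq fun _ => rfl
  have hu := H D (D ⧸ K) (map_pow_eq_bot D) (map_pow_eq_bot _) (Ideal.Quotient.mkₐ A K)
    Ideal.Quotient.mk_surjective
    (by rw [show RingHom.ker (Ideal.Quotient.mkₐ A K) = K from Ideal.mk_ker]; exact hK)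
    (((Ideal.Quotient.mkₐ A K).comp (v₁.restrictScalars A)).comp (Ideal.Quotient.mkₐ A _))
  have := hu.unique (y₁ := (v₁.restrictScalars A).comp (Ideal.Quotient.mkₐ A _))
    (y₂ := (v₂.restrictScalars A).comp (Ideal.Quotient.mkₐ A _)) (AlgHom.ext fun _ => rfl)
    (AlgHom.ext fun x => (AlgHom.congr_fun h (Ideal.Quotient.mk _ x)).symm)
  refine AlgHom.ext fun x => ?_
  obtain ⟨b, rfl⟩ := Ideal.Quotient.mk_surjective x
  exact AlgHom.congr_fun this b

end Lift

end

end Groth.Agent.HensSmooth
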