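import Mathlib
import Groth.Agent.HensSmooth.Basic
import Groth.Agent.SmLift.Main
import Groth.Agent.HensShrink.Basic
import Groth.Agent.Hensel.Lift
import Groth.Agent.S17609
import Groth.Agent.S17596
import Groth.Agent.S17597

set_option autoImplicit false

/-!
Smooth models of henselian finitely presented algebras.
-/

universe u

namespace Groth.Agent.HensSmooth

noncomputable section

variable {A : Type u} [CommRing A] {I : Ideal A}

/-- Formally smooth truncations give the lifting property along the truncations of the model. -/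
theorem ker_le_pow [HenselianRing A I] {H B : Type u} [CommRing H] [Algebra A H] [CommRing B]
    [Algebra A B] (φ : H →ₐ[A] B) (hφ : Function.Surjective φ)
    (hker : RingHom.ker φ.toRingHom ≤ I.map (algebraMap A H))
    (het : ∀ r : ℕ, 1 ≤ r → Algebra.Smooth (A ⧸ I ^ r) (B ⧸ (I ^ r).map (algebraMap A B))) (n : ℕ) :
    RingHom.ker φ.toRingHom ≤ (I ^ n).map (algebraMap A H) := by
  rcases Nat.eq_zero_or_pos n with rfl | hn
  · rw [pow_zero, Ideal.one_eq_top, Ideal.map_top]; exact le_top
  haveI := het n hn
  let E := H ⧸ (I ^ n).map (algebraMap A H)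
  let C := B ⧸ (I ^ n).map (algebraMap A B)
  have hE : (I ^ n).map (algebraMap A E) = ⊥ := map_pow_eq_bot (J := I ^ n) E
  have hC : (I ^ n).map (algebraMap A C) = ⊥ := map_pow_eq_bot (J := I ^ n) C
  let p : E →ₐ[A] C := Ideal.Quotient.liftₐ _ ((Ideal.Quotient.mkₐ A _).comp φ) fun a ha =>
    map_le_ker hC ((Ideal.Quotient.mkₐ A _).comp φ) ha
  have hpmk : ∀ h, p (Ideal.Quotient.mk _ h) = Ideal.Quotient.mk _ (φ h) := fun _ => rfl
  have hp : Function.Surjective p := fun c => by
    obtain ⟨b, rfl⟩ := Ideal.Quotient.mk_surjective c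
    obtain ⟨h, rfl⟩ := hφ b
    exact ⟨Ideal.Quotient.mk _ h, rfl⟩
  have hpker : RingHom.ker p.toRingHom ≤ I.map (algebraMap A E) := by
    intro x hx
    obtain ⟨h, rfl⟩ := Ideal.Quotient.mk_surjective x
    have hx' : φ h ∈ (I ^ n).map (algebraMap A B) := Ideal.Quotient.eq_zero_iff_mem.1 hx
    rw [show algebraMap A B = φ.toRingHom.comp (algebraMap A H) from
        (RingHom.ext φ.commutes).symm, ← Ideal.map_map,
      Ideal.mem_map_iff_of_surjective φ.toRingHom hφ] at hx'
    obtain ⟨y, hy, hyh⟩ := hx'
    have h1 : h - y ∈ I.map (algebraMap A H) := hker (by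
      show φ (h - y) = 0
      rw [map_sub, show φ y = φ h from hyh, sub_self])
    have h2 := add_mem h1 (Ideal.map_mono (Ideal.pow_le_self (Nat.pos_iff_ne_zero.1 hn)) hy)
    rw [sub_add_cancel] at h2
    rw [IsScalarTower.algebraMap_eq A H E, ← Ideal.map_map]
    exact Ideal.mem_map_of_mem (algebraMap H E) h2
  have hnil : IsNilpotent (RingHom.ker p.toRingHom) := ⟨n, by
    rw [Ideal.zero_eq_bot, eq_bot_iff]
    exact (Ideal.pow_right_mono hpker n).trans (by rw [← Ideal.map_pow, hE])⟩
  obtain ⟨v, hv⟩ := exists_lift hE hC p hp hnil (Ideal.Quotient.mkₐ A _)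
  -- `E` is the image of `v` plus `I E`
  have hall : ∀ k : ℕ, ∀ x : E, ∃ b, x - v b ∈ (I ^ k).map (algebraMap A E) := by
    intro k
    induction k with
    | zero => exact fun x => ⟨0, by rw [pow_zero, Ideal.one_eq_top, Ideal.map_top]; trivial⟩
    | succ k ih =>
      intro x
      obtain ⟨b, hb⟩ := ih x
      suffices ∀ y ∈ (I ^ k).map (algebraMap A E),
          ∃ b, y - v b ∈ (I ^ (k + 1)).map (algebraMap A E) by
        obtain ⟨b', hb'⟩ := this _ hb
        exact ⟨b + b', by rwa [map_add, ← sub_sub]⟩
      intro y hy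
      change y ∈ Submodule.span E ((algebraMap A E) '' ((I ^ k : Ideal A) : Set A)) at hy
      obtain ⟨N, t, a, hat⟩ := Submodule.mem_span_set'.1 hy
      choose a' ha' haa using fun i => (a i).2
      have hb0 : ∀ z : E, ∃ b, z - v b ∈ I.map (algebraMap A E) := fun z => by
        obtain ⟨b, hb⟩ := Ideal.Quotient.mk_surjective (p z)
        refine ⟨b, hpker ?_⟩
        show p (z - v b) = 0
        rw [map_sub, show p (v b) = Ideal.Quotient.mk _ b from AlgHom.congr_fun hv b, hb, sub_self]
      choose bb hbb using fun i => hb0 (t i)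
      refine ⟨∑ i, algebraMap A B (a' i) * bb i, ?_⟩
      rw [← hat, map_sum, ← Finset.sum_sub_distrib]
      refine sum_mem fun i _ => ?_
      rw [map_mul, v.commutes, smul_eq_mul, ← haa i, mul_comm, ← mul_sub, pow_succ, Ideal.map_mul]
      exact Ideal.mul_mem_mul (Ideal.mem_map_of_mem _ (ha' i)) (hbb i)
  intro h hh
  obtain ⟨b, hb⟩ := hall n (Ideal.Quotient.mk _ h)
  rw [hE, Ideal.mem_bot, sub_eq_zero] at hb
  rw [← Ideal.Quotient.eq_zero_iff_mem]
  have h0 : p (Ideal.Quotient.mk _ h) = Ideal.Quotient.mk _ b := by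
    rw [hb]; exact AlgHom.congr_fun hv b
  rw [hpmk, show φ h = 0 from hh, map_zero] at h0
  rw [hb]
  have hbJ : b ∈ (I ^ n).map (algebraMap A B) := Ideal.Quotient.eq_zero_iff_mem.1 h0.symm
  exact map_le_ker hE v hbJ

/-- A model of `B` from a smooth model of its reduction. -/
theorem exists_model [HenselianRing A I] (R₀ : Type u) [CommRing R₀] [Algebra A R₀]
    [Algebra.FinitePresentation A R₀] (B : Type u) [CommRing B] [Algebra R₀ B] [Algebra A B]
    [IsScalarTower A R₀ B] (hB : Hens2.IsPairHenselization R₀ (I.map (algebraMap A R₀)) B)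
    (het : ∀ r : ℕ, 1 ≤ r → Algebra.Smooth (A ⧸ I ^ r) (B ⧸ (I ^ r).map (algebraMap A B)))
    (R : Type u) [CommRing R] [Algebra A R] [Algebra.Smooth A R]
    (π : R →ₐ[A] B ⧸ I.map (algebraMap A B)) (hπ : Function.Surjective π)
    (hker : RingHom.ker π.toRingHom ≤ I.map (algebraMap A R)) :
    ∃ (H : Type u) (_ : CommRing H) (_ : Algebra R H) (_ : Algebra A H) (_ : IsScalarTower A R H),
      Hens2.IsPairHenselization R (I.map (algebraMap A R)) H ∧
      ∃ φ : H →ₐ[A] B, Function.Surjective φ ∧ (RingHom.ker φ).FG ∧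
        ∀ n : ℕ, RingHom.ker φ ≤ (I ^ n).map (algebraMap A H) := by
  haveI hBh : HenselianRing B (I.map (algebraMap A B)) := by
    have := hB.1
    rwa [Ideal.map_map, ← IsScalarTower.algebraMap_eq] at this
  obtain ⟨τ, hτ⟩ := Hensel.exists_algHom_of_smooth (I := I.map (algebraMap A B)) π
  let H := PairHens.Hz R (I.map (algebraMap A R))
  have hH : Hens2.IsPairHenselization R (I.map (algebraMap A R)) H :=
    PairHens.isPairHenselization R _
  letI : Algebra A H := ((algebraMap R H).comp (algebraMap A R)).toAlgebra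
  haveI : IsScalarTower A R H := .of_algebraMap_eq fun _ => rfl
  haveI hHh : HenselianRing H (I.map (algebraMap A H)) := by
    have := hH.1
    rwa [Ideal.map_map] at this
  obtain ⟨g, hg, -⟩ := hH.2 B (I.map (algebraMap A B)) τ.toRingHom hBh (by
    rw [Ideal.map_map, show τ.toRingHom.comp (algebraMap A R) = algebraMap A B from RingHom.ext τ.commutes])
  let φ : H →ₐ[A] B :=
    { toRingHom := g
      commutes' := fun a => (RingHom.congr_fun hg (algebraMap A R a)).trans (τ.commutes a) }
  have hφR : ∀ x, φ (algebraMap R H x) = τ x := RingHom.congr_fun hg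
  letI : Algebra H B := φ.toRingHom.toAlgebra
  haveI : IsScalarTower A H B := .of_algebraMap_eq fun a => (φ.commutes a).symm
  obtain ⟨T, _, _, _, _, hT, hTB⟩ := S17609.result A I R H hH R₀ B hB
  have hIB : (I.map (algebraMap A H)).map (algebraMap H B) = I.map (algebraMap A B) := by
    rw [Ideal.map_map, ← IsScalarTower.algebraMap_eq]
  have hqs : Function.Surjective (Ideal.quotientMap ((I.map (algebraMap A H)).map (algebraMap H B))
      (algebraMap H B) Ideal.le_comap_map) := fun c => by
    obtain ⟨b, rfl⟩ := Ideal.Quotient.mk_surjective c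
    obtain ⟨x, hx⟩ := hπ (Ideal.Quotient.mk _ b)
    refine ⟨Ideal.Quotient.mk _ (algebraMap R H x), ?_⟩
    rw [Ideal.quotientMap_mk, Ideal.Quotient.eq, hIB, ← Ideal.Quotient.eq]
    show Ideal.Quotient.mk _ (φ (algebraMap R H x)) = _
    rw [hφR, ← hx]
    exact AlgHom.congr_fun hτ x
  have hsurj : Function.Surjective φ :=
    S17597.result H (I.map (algebraMap A H)) T B hTB hqs
  obtain ⟨-, hBfp⟩ := S17596.result H (I.map (algebraMap A H)) T B hTB
    (RingHom.Finite.of_surjective _ hqs)
  have hfg : (RingHom.ker φ.toRingHom).FG :=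
    Algebra.FinitePresentation.ker_fG_of_surjective (Algebra.ofId H B) hsurj
  have hkerI : RingHom.ker φ.toRingHom ≤ I.map (algebraMap A H) := by
    intro h hh
    obtain ⟨x, hx⟩ := PairHens.exists_sub_mem_map_pow hH 1 h
    rw [pow_one, Ideal.map_map, ← IsScalarTower.algebraMap_eq] at hx
    have hx' := Ideal.mem_map_of_mem φ.toRingHom hx
    rw [Ideal.map_map, show φ.toRingHom.comp (algebraMap A H) = algebraMap A B from RingHom.ext φ.commutes] at hx'
    have hxI : x ∈ I.map (algebraMap A R) := by
      refine hker ?_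
      show π x = 0
      rw [← AlgHom.congr_fun hτ x]
      refine Ideal.Quotient.eq_zero_iff_mem.2 ?_
      have : φ.toRingHom (h - algebraMap R H x) = - τ x := by
        rw [map_sub, show φ.toRingHom h = 0 from hh, zero_sub]
        exact congrArg Neg.neg (hφR x)
      rw [this, neg_mem_iff] at hx'
      exact hx'
    have := add_mem hx (show algebraMap R H x ∈ I.map (algebraMap A H) by
      rw [IsScalarTower.algebraMap_eq A R H, ← Ideal.map_map]; exact Ideal.mem_map_of_mem _ hxI)
    rwa [sub_add_cancel] at this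
  exact ⟨H, inferInstance, inferInstance, inferInstance, inferInstance, hH, φ, hsurj, hfg,
    ker_le_pow φ hsurj hkerI het⟩

/-- A flat quotient of the model is the model. -/
theorem injective_of_flat {H B : Type u} [CommRing H] [Algebra A H] [CommRing B] [Algebra A B]
    [Module.Flat A B] (hjac : I.map (algebraMap A H) ≤ Ideal.jacobson ⊥) (φ : H →ₐ[A] B)
    (hφ : Function.Surjective φ) (hfg : (RingHom.ker φ).FG)
    (hker : RingHom.ker φ ≤ I.map (algebraMap A H)) : Function.Injective φ := by
  suffices h : RingHom.ker φ = ⊥ from (RingHom.injective_iff_ker_eq_bot φ).2 h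
  refine Submodule.eq_bot_of_le_smul_of_le_jacobson_bot _ _ hfg (fun x hx => ?_) hjac
  have hxI := hker hx
  rw [Ideal.map] at hxI
  obtain ⟨N, t, a, hat⟩ := Submodule.mem_span_set'.1 hxI
  choose a' ha' haa using fun i => (a i).2
  have hsum : ∑ i, a' i • φ (t i) = 0 := by
    rw [← show φ x = 0 from hx, ← hat, map_sum]
    refine Finset.sum_congr rfl fun i _ => ?_
    rw [smul_eq_mul, map_mul, ← haa i, φ.commutes, Algebra.smul_def, mul_comm]
  obtain ⟨k, c, y, hy, hc⟩ := Module.Flat.isTrivialRelation_of_sum_smul_eq_zero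
    (R := A) (M := B) (f := a') (x := fun i => φ (t i)) hsum
  choose z hz using fun j => hφ (y j)
  have hxk : x = ∑ i, algebraMap A H (a' i) * (t i - ∑ j, c i j • z j) := by
    simp only [mul_sub, Finset.sum_sub_distrib, Finset.mul_sum]
    rw [Finset.sum_comm (f := fun i j => algebraMap A H (a' i) * c i j • z j),
      Finset.sum_eq_zero (s := Finset.univ) (f := fun j => ∑ i, algebraMap A H (a' i) * c i j • z j),
      sub_zero, ← hat]
    · exact Finset.sum_congr rfl fun i _ => by rw [smul_eq_mul, ← haa i, mul_comm]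
    · intro j _
      simp only [Algebra.smul_def, ← mul_assoc, ← Finset.sum_mul, ← map_mul, ← map_sum, hc j,
        map_zero, zero_mul]
  rw [hxk]
  refine sum_mem fun i _ => Submodule.smul_mem_smul (Ideal.mem_map_of_mem _ (ha' i)) ?_
  show φ (t i - ∑ j, c i j • z j) = 0
  rw [map_sub, show φ (t i) = _ from hy i, map_sum, sub_eq_zero]
  simp [hz]

/-- Henselizations transport along isomorphisms. -/
theorem isPairHenselization_of_algEquiv {R H B : Type u} [CommRing R] [CommRing H] [Algebra R H]
    [CommRing B] [Algebra R B] {J : Ideal R} (hH : Hens2.IsPairHenselization R J H) (e : H ≃ₐ[R] B) :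
    Hens2.IsPairHenselization R J B := by
  constructor
  · have hmap : J.map (algebraMap R B) = (J.map (algebraMap R H)).map e.toAlgHom.toRingHom := by
      rw [Ideal.map_map]; exact congrArg J.map (RingHom.ext e.commutes).symm
    rw [hmap]
    letI : Algebra H B := e.toAlgHom.toRingHom.toAlgebra
    haveI : Algebra.IsIntegral H B := ⟨fun b => by
      obtain ⟨h, rfl⟩ := e.surjective b
      exact (isIntegral_algebraMap : IsIntegral H (algebraMap H B h))⟩
    haveI := hH.1
    exact Hensel.of_isIntegral (I := J.map (algebraMap R H)) B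
  · intro D _ K f hD hf
    obtain ⟨g, hg, hu⟩ := hH.2 D K f hD hf
    refine ⟨g.comp e.symm.toAlgHom.toRingHom, ?_, fun g' hg' => ?_⟩
    · refine RingHom.ext fun x => ?_
      show g (e.symm (algebraMap R B x)) = f x
      rw [e.symm.commutes]; exact RingHom.congr_fun hg x
    · have := hu (g'.comp e.toAlgHom.toRingHom) (RingHom.ext fun x => by
        show g' (e (algebraMap R H x)) = f x
        rw [e.commutes]; exact RingHom.congr_fun hg' x)
      refine RingHom.ext fun x => ?_
      show g' x = g (e.symm x)
      rw [← this]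
      show g' x = g' (e (e.symm x))
      rw [e.apply_symm_apply]

/-- The flat case of the model. -/
theorem exists_isPairHenselization [HenselianRing A I] (R₀ : Type u) [CommRing R₀] [Algebra A R₀]
    [Algebra.FinitePresentation A R₀] (B : Type u) [CommRing B] [Algebra R₀ B] [Algebra A B]
    [IsScalarTower A R₀ B] (hB : Hens2.IsPairHenselization R₀ (I.map (algebraMap A R₀)) B)
    [Module.Flat A B]
    (het : ∀ r : ℕ, 1 ≤ r → Algebra.Smooth (A ⧸ I ^ r) (B ⧸ (I ^ r).map (algebraMap A B)))
    (R : Type u) [CommRing R] [Algebra A R] [Algebra.Smooth A R]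
    (π : R →ₐ[A] B ⧸ I.map (algebraMap A B)) (hπ : Function.Surjective π)
    (hker : RingHom.ker π.toRingHom ≤ I.map (algebraMap A R)) :
    ∃ (_ : Algebra R B) (_ : IsScalarTower A R B),
      Hens2.IsPairHenselization R (I.map (algebraMap A R)) B := by
  obtain ⟨H, _, _, _, _, hH, φ, hφ, hfg, hk⟩ := exists_model R₀ B hB het R π hπ hker
  have hinj : Function.Injective φ := injective_of_flat (I := I) (by
    have := hH.1.jac
    rwa [Ideal.map_map, ← IsScalarTower.algebraMap_eq] at this) φ hφ hfg (by simpa using hk 1)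
  letI : Algebra R B := (φ.toRingHom.comp (algebraMap R H)).toAlgebra
  haveI : IsScalarTower A R B := .of_algebraMap_eq fun a => by
    show _ = φ (algebraMap R H (algebraMap A R a))
    rw [← IsScalarTower.algebraMap_apply, φ.commutes]
  exact ⟨inferInstance, inferInstance, isPairHenselization_of_algEquiv hH
    { toRingEquiv := RingEquiv.ofBijective φ ⟨hinj, hφ⟩, commutes' := fun _ => rfl }⟩

/-- The smooth model of the reduction. -/
theorem exists_smooth (B : Type u) [CommRing B] [Algebra A B]
    (h : Algebra.Smooth (A ⧸ I ^ 1) (B ⧸ (I ^ 1).map (algebraMap A B))) :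
    ∃ (R : Type u) (_ : CommRing R) (_ : Algebra A R), Algebra.Smooth A R ∧
      ∃ π : R →ₐ[A] B ⧸ I.map (algebraMap A B), Function.Surjective π ∧
        RingHom.ker π.toRingHom = I.map (algebraMap A R) := by
  rw [pow_one] at h
  exact SmLift.exists_smooth_lift (A := A) (I := I) (C := B ⧸ I.map (algebraMap A B))

/-- An etale model of the reduction. -/
theorem exists_etale (B : Type u) [CommRing B] [Algebra A B]
    (h : Algebra.Etale (A ⧸ I ^ 1) (B ⧸ (I ^ 1).map (algebraMap A B))) :
    ∃ (R : Type u) (_ : CommRing R) (_ : Algebra A R), Algebra.Etale A R ∧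
      ∃ π : R →ₐ[A] B ⧸ I.map (algebraMap A B), Function.Surjective π ∧
        RingHom.ker π.toRingHom ≤ I.map (algebraMap A R) := by
  rw [pow_one] at h
  obtain ⟨R, _, _, hR, π, hπ, hk⟩ :=
    SmLift.exists_smooth_lift (A := A) (I := I) (C := B ⧸ I.map (algebraMap A B))
  generalize hJ : I.map (algebraMap A R) = J at hk
  haveI : Algebra.FormallyUnramified A (B ⧸ I.map (algebraMap A B)) := by
    haveI : Algebra.FormallyUnramified A (A ⧸ I) := Algebra.FormallyUnramified.quotient _
    exact Algebra.FormallyUnramified.comp A (A ⧸ I) _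
  let e : (R ⧸ J) ≃ₐ[A] B ⧸ I.map (algebraMap A B) :=
    AlgEquiv.ofBijective (Ideal.Quotient.liftₐ J π fun a ha => hk.ge ha)
      ⟨RingHom.lift_injective_of_ker_le_ideal _ _ hk.le, fun c => by
        obtain ⟨x, rfl⟩ := hπ c
        exact ⟨Ideal.Quotient.mk _ x, rfl⟩⟩
  haveI : Algebra.FormallyUnramified A (R ⧸ J) := Algebra.FormallyUnramified.of_equiv e.symm
  -- differentials vanish modulo `J`
  have hd : ∀ x, KaehlerDifferential.D A R x ∈ J • (⊤ : Submodule R Ω[R⁄A]) := by
    intro x
    let M := Ω[R⁄A] ⧸ J • (⊤ : Submodule R Ω[R⁄A])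
    let DM : Derivation A R M := (Submodule.mkQ _).compDer (KaehlerDifferential.D A R)
    have hJM : ∀ a ∈ J, ∀ m : M, a • m = 0 := fun a ha m => by
      obtain ⟨m, rfl⟩ := Submodule.Quotient.mk_surjective _ m
      rw [← Submodule.Quotient.mk_smul, Submodule.Quotient.mk_eq_zero]
      exact Submodule.smul_mem_smul ha trivial
    have hzero : ∀ a ∈ J, DM a = 0 := fun a ha => by
      rw [← hJ] at ha
      induction ha using Submodule.span_induction with
      | mem y hy => obtain ⟨c, -, rfl⟩ := hy; exact DM.map_algebraMap c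
      | zero => exact map_zero _
      | add y z _ _ h1 h2 => rw [map_add, h1, h2, add_zero]
      | smul c y hy h1 =>
        rw [smul_eq_mul, DM.leibniz, h1, smul_zero, zero_add]
        exact hJM y (hJ.le hy) _
    let DQ : Derivation A (R ⧸ J) M :=
      { toFun := Quotient.lift (fun r => DM r) fun a b hab => by
          rw [← sub_eq_zero, ← map_sub]
          exact hzero _ ((Submodule.quotientRel_def _).1 hab)
        map_add' := fun a b => by
          obtain ⟨a, rfl⟩ := Ideal.Quotient.mk_surjective a
          obtain ⟨b, rfl⟩ := Ideal.Quotient.mk_surjective b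
          exact map_add DM a b
        map_smul' := fun c a => by
          obtain ⟨a, rfl⟩ := Ideal.Quotient.mk_surjective a
          exact DM.map_smul c a
        map_one_eq_zero' := DM.map_one_eq_zero
        leibniz' := fun a b => by
          obtain ⟨a, rfl⟩ := Ideal.Quotient.mk_surjective a
          obtain ⟨b, rfl⟩ := Ideal.Quotient.mk_surjective b
          exact DM.leibniz a b }
    have : DQ (Ideal.Quotient.mk J x) = 0 := by
      rw [← DQ.liftKaehlerDifferential_comp_D, Subsingleton.elim (KaehlerDifferential.D A _ _) 0, map_zero]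
    exact (Submodule.Quotient.mk_eq_zero _).1 this
  haveI := hR
  obtain ⟨b, hb, hbΩ⟩ := Submodule.exists_sub_one_mem_and_smul_eq_zero_of_fg_of_le_smul J
    (⊤ : Submodule R Ω[R⁄A]) Module.Finite.fg_top (by
      rw [← KaehlerDifferential.span_range_derivation A R, Submodule.span_le]
      rintro _ ⟨x, rfl⟩
      rw [KaehlerDifferential.span_range_derivation]
      exact hd x)
  let T := Localization.Away b
  haveI : Algebra.Smooth R T :=
    { formallySmooth := Algebra.FormallySmooth.of_isLocalization (Submonoid.powers b)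
      finitePresentation := IsLocalization.Away.finitePresentation b }
  haveI : Algebra.Smooth A T := Algebra.Smooth.comp A R T
  haveI : Algebra.FormallyUnramified A T := by
    refine ⟨?_⟩
    have hbu : IsUnit (algebraMap R T b) := IsLocalization.Away.algebraMap_isUnit b
    have hzero : ∀ x : T, KaehlerDifferential.D A T x = 0 := by
      have hR0 : ∀ x : R, KaehlerDifferential.D A T (algebraMap R T x) = 0 := fun x => by
        have h1 := congrArg (KaehlerDifferential.map A A R T) (hbΩ (KaehlerDifferential.D A R x) trivial)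
        rw [map_smul, map_zero, KaehlerDifferential.map_D, ← IsScalarTower.algebraMap_smul T] at h1
        exact (hbu.smul_eq_zero).1 h1
      intro z
      obtain ⟨x, ⟨_, k, rfl⟩, rfl⟩ := IsLocalization.exists_mk'_eq (Submonoid.powers b) z
      have h1 := congrArg (KaehlerDifferential.D A T)
        (IsLocalization.mk'_spec (M := Submonoid.powers b) T x ⟨b ^ k, k, rfl⟩)
      rw [Derivation.leibniz, hR0, hR0, smul_zero, zero_add] at h1
      exact ((IsLocalization.map_units T (⟨b ^ k, k, rfl⟩ : Submonoid.powers b)).smul_eq_zero).1 h1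
    refine subsingleton_of_forall_eq 0 fun ω => ?_
    have : (⊤ : Submodule T Ω[T⁄A]) ≤ ⊥ := by
      rw [← KaehlerDifferential.span_range_derivation A T, Submodule.span_le]
      rintro _ ⟨x, rfl⟩
      exact hzero x
    exact (Submodule.mem_bot T).1 (this trivial)
  have hπb : π b = 1 := by
    rw [← sub_eq_zero, ← map_one π, ← map_sub]
    exact hk.ge hb
  let πT : T →ₐ[A] B ⧸ I.map (algebraMap A B) :=
    IsLocalization.liftAlgHom (M := Submonoid.powers b) (f := π) (by
      rintro ⟨_, k, rfl⟩; rw [map_pow, hπb, one_pow]; exact isUnit_one)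
  have hπT : ∀ x, πT (algebraMap R T x) = π x := fun x => IsLocalization.lift_eq _ x
  refine ⟨T, inferInstance, inferInstance,
    { formallyEtale := Algebra.FormallyEtale.of_formallyUnramified_and_formallySmooth,
      finitePresentation := inferInstance }, πT, fun c => ?_, fun z hz => ?_⟩
  · obtain ⟨x, rfl⟩ := hπ c
    exact ⟨algebraMap R T x, hπT x⟩
  · obtain ⟨x, s, rfl⟩ := IsLocalization.exists_mk'_eq (Submonoid.powers b) z
    rw [IsScalarTower.algebraMap_eq A R T, ← Ideal.map_map, hJ]
    refine (IsLocalization.mk'_mem_map_algebraMap_iff (Submonoid.powers b) T J x s).2 ⟨1, one_mem _, ?_⟩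
    rw [one_mul]
    refine hk.le ?_
    have h0 := congrArg (· * πT (algebraMap R T s)) (show πT (IsLocalization.mk' T x s) = 0 from hz)
    simp only [zero_mul, ← map_mul] at h0
    rw [IsLocalization.mk'_spec, hπT] at h0
    exact h0

end

end Groth.Agent.HensSmooth
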